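import Mathlib.RingTheory.IntegralClosure.IntegrallyClosed
import Mathlib.RingTheory.Localization.FractionRing

/-!
# Subrings of finite products of normal domains which are closed under supports and exact division
-/

namespace GrothLib.NormProd

universe u

variable {ι : Type u} [Fintype ι] (D : ι → Type u) [∀ i, CommRing (D i)]

open scoped Classical in
/-- The support idempotent of an element of a product. -/
noncomputable def supp (a : Π i, D i) : Π i, D i := fun i => if a i = 0 then 0 else 1

theorem supp_mul_self (a : Π i, D i) : supp D a * a = a := by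
  classical
  funext i
  rw [Pi.mul_apply, supp]
  split <;> simp_all

variable [∀ i, IsDomain (D i)]

theorem supp_mul_eq_zero (a y : Π i, D i) (h : a * y = 0) : supp D a * y = 0 := by
  classical
  funext i
  have := congrFun h i
  rw [Pi.mul_apply, supp]
  split
  · simp
  · simpa [‹a i ≠ 0›] using this

variable [∀ i, IsIntegrallyClosed (D i)]

theorem exists_prod_of (A : Subring (Π i, D i)) (hsupp : ∀ a ∈ A, supp D a ∈ A)
    (hdiv : ∀ z b, b ∈ A → z * b ∈ A → z * supp D b = z → z ∈ A) :
    ∃ (κ : Type u) (_ : Fintype κ) (E : κ → Type u) (_ : ∀ j, CommRing (E j)) (_ : ∀ j, IsDomain (E j))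
      (_ : ∀ j, IsIntegrallyClosed (E j)), Nonempty (A ≃+* Π j, E j) := by
  classical
  let g : ∀ i, A →+* D i := fun i => (Pi.evalRingHom D i).comp A.subtype
  let st : Setoid ι :=
    { r := fun i j => ∀ a : A, g i a = 0 ↔ g j a = 0
      iseqv := ⟨fun i a => Iff.rfl, fun h a => (h a).symm, fun h h' a => (h a).trans (h' a)⟩ }
  -- indicator of each class
  have hind : ∀ i, ∃ u : A, ∀ j, g j u = if (∀ a : A, g i a = 0 ↔ g j a = 0) then 1 else 0 := by
    intro i
    have h1 : ∀ j, ¬ (∀ a : A, g i a = 0 ↔ g j a = 0) →
        ∃ u : A, g i u = 1 ∧ g j u = 0 ∧ ∀ k, g k u = 0 ∨ g k u = 1 := by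
      intro j hj
      push Not at hj
      obtain ⟨a, ha⟩ := hj
      let u : A := ⟨supp D a.1, hsupp _ a.2⟩
      have hu : ∀ k, g k u = if g k a = 0 then 0 else 1 := fun k => by
        simp only [g, u, supp, RingHom.comp_apply, Subring.subtype_apply, Pi.evalRingHom_apply]
      rcases ha with ⟨h0, h0'⟩ | ⟨h0, h0'⟩
      · refine ⟨1 - u, by simp [hu, h0], by simp [hu, h0'], fun k => ?_⟩
        rw [map_sub, map_one, hu]
        split <;> simp
      · refine ⟨u, by simp [hu, h0], by simp [hu, h0'], fun k => ?_⟩
        rw [hu]
        split <;> simp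
    choose u hu1 hu0 hu01 using h1
    refine ⟨∏ j, if h : (∀ a : A, g i a = 0 ↔ g j a = 0) then 1 else u j h, fun j => ?_⟩
    split
    · rename_i hj
      rw [map_prod]
      refine Finset.prod_eq_one fun k _ => ?_
      split
      · exact map_one _
      · rename_i hk
        refine (hu01 k hk j).resolve_left fun h => ?_
        have := (hj (u k hk)).2 h
        rw [hu1 k hk] at this
        exact one_ne_zero this
    · rename_i hj
      rw [map_prod]
      exact Finset.prod_eq_zero (Finset.mem_univ j) (by rw [dif_neg hj, hu0 j hj])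
  choose u hu using hind
  have hint : ∀ i, IsIntegrallyClosed (g i).range := by
    intro i
    have hs := (g i).rangeRestrict_surjective
    rw [isIntegrallyClosed_iff (FractionRing (g i).range)]
    intro w hw
    obtain ⟨⟨a', ha'⟩, ⟨b', hb'⟩, hbne, rfl⟩ := IsFractionRing.div_surjective (A := (g i).range) w
    obtain ⟨a, rfl⟩ := ha'
    obtain ⟨b, rfl⟩ := hb'
    have hb0 : g i b ≠ 0 := fun h => nonZeroDivisors.ne_zero hbne (Subtype.ext h)
    have key : ∀ j, ∃ d : D j, d * g j b = g j a * g j (u i) ∧ d * g j (u i) = d := by
      intro j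
      by_cases hj : ∀ c : A, g i c = 0 ↔ g j c = 0
      · have hu1 : g j (u i) = 1 := by rw [hu, if_pos hj]
        let h : (g i).range →+* D j := (g i).rangeRestrict.liftOfSurjective hs ⟨g j, fun c hc => by
          rw [RingHom.mem_ker] at hc ⊢
          exact (hj c).1 (congrArg Subtype.val hc)⟩
        have hh : ∀ c, h ((g i).rangeRestrict c) = g j c := fun c =>
          RingHom.liftOfRightInverse_comp_apply _ _ _ _ c
        have hinj : Function.Injective h := by
          rw [injective_iff_map_eq_zero]
          intro c hc
          obtain ⟨c, rfl⟩ := hs c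
          rw [hh] at hc
          exact Subtype.ext ((hj c).2 hc)
        let φ : FractionRing (g i).range →+* FractionRing (D j) := IsFractionRing.map hinj
        have hφ : ∀ c, φ (algebraMap _ _ c) = algebraMap (D j) _ (h c) := fun c =>
          IsLocalization.map_eq _ c
        obtain ⟨d, hd⟩ := (isIntegrallyClosed_iff (FractionRing (D j))).1 inferInstance
          (hw.map_of_comp_eq h φ (RingHom.ext fun c => (hφ c).symm))
        refine ⟨d, ?_, by rw [hu1, mul_one]⟩
        rw [map_div₀, hφ, hφ, eq_div_iff] at hd
        · rw [← map_mul] at hd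
          have := IsFractionRing.injective (D j) (FractionRing (D j)) hd
          rw [hu1, mul_one]
          rwa [show (⟨g i a, _⟩ : (g i).range) = (g i).rangeRestrict a from rfl, hh,
            show (⟨g i b, _⟩ : (g i).range) = (g i).rangeRestrict b from rfl, hh] at this
        · rw [Ne, IsFractionRing.to_map_eq_zero_iff, map_eq_zero_iff _ hinj]
          exact nonZeroDivisors.ne_zero hbne
      · exact ⟨0, by rw [hu, if_neg hj, mul_zero, zero_mul], by simp⟩
    choose d hd hd1 using key
    have hz : d ∈ A := by
      refine hdiv d (b * u i).1 (b * u i).2 ?_ ?_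
      · have : d * (b * u i).1 = (a * u i).1 := funext fun j => by
          change d j * (g j b * g j (u i)) = g j a * g j (u i)
          rw [← mul_assoc, hd, mul_assoc, hu]
          split <;> simp
        exact this ▸ (a * u i).2
      · funext j
        change d j * supp D _ j = d j
        simp only [supp]
        split
        · rename_i hj
          rw [mul_zero]
          by_cases hij : ∀ c : A, g i c = 0 ↔ g j c = 0
          · exfalso
            change g j b * g j (u i) = 0 at hj
            rw [hu, if_pos hij, mul_one] at hj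
            exact hb0 ((hij b).2 hj)
          · rw [← hd1 j, hu, if_neg hij, mul_zero]
        · rw [mul_one]
    refine ⟨(g i).rangeRestrict ⟨d, hz⟩, ?_⟩
    rw [eq_div_iff (by rw [Ne, IsFractionRing.to_map_eq_zero_iff]; exact nonZeroDivisors.ne_zero hbne),
      ← map_mul]
    congr 1
    refine Subtype.ext ?_
    change d i * g i b = g i a
    rw [hd, hu, if_pos (fun _ => Iff.rfl), mul_one]
  refine ⟨Quotient st, Fintype.ofFinite _, fun c => (g c.out).range, inferInstance,
    fun c => inferInstance, fun c => hint _,
    ⟨RingEquiv.ofBijective (RingHom.pi fun c => (g (Quotient.out c)).rangeRestrict) ⟨?_, ?_⟩⟩⟩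
  · rw [injective_iff_map_eq_zero]
    intro a ha
    refine Subtype.ext (funext fun i => ?_)
    have h := congrArg Subtype.val (congrFun ha (Quotient.mk st i))
    exact ((Quotient.mk_out (s := st) i) a).1 h
  · intro y
    have hy : ∀ c, ∃ a : A, g (Quotient.out c) a = (y c).1 := fun c => (y c).2
    choose a ha using hy
    letI : Fintype (Quotient st) := Fintype.ofFinite _
    refine ⟨∑ c, a c * u c.out, funext fun c' => Subtype.ext ?_⟩
    change g c'.out (∑ c, a c * u c.out) = (y c').1
    rw [map_sum, Finset.sum_eq_single c']
    · rw [map_mul, hu, if_pos (fun _ => Iff.rfl), mul_one, ha]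
    · intro c _ hc
      rw [map_mul, hu, if_neg, mul_zero]
      intro h
      exact hc (Quotient.out_equiv_out.1 h)
    · exact fun h => absurd (Finset.mem_univ _) h

end GrothLib.NormProd
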