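import Groth.Prelude.Def_HopfRep
import Groth.Agent.Lib.NormProd.Sub
import Groth.Agent.Lib.Hopf.Antipode
import Mathlib.LinearAlgebra.TensorProduct.Basis

/-!
# Invariants of a comodule algebra which is a product of normal domains
-/

namespace GrothLib.NormProd

universe u

open TensorProduct HopfRep

variable {k : Type u} [Field k] {H : Type u} [CommRing H] [HopfAlgebra k H]
    {S : Type u} [CommRing S] [Algebra k S]

/-- If `ε` kills the annihilator of `a`, then `ε ⊗ 1` kills the annihilator of `a ⊗ 1`. -/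
theorem ann_tensor {a ε : S} (h : ∀ y, a * y = 0 → ε * y = 0) (z : S ⊗[k] H)
    (hz : (a ⊗ₜ[k] (1 : H)) * z = 0) : (ε ⊗ₜ[k] (1 : H)) * z = 0 := by
  let b := Module.Free.chooseBasis k H
  have hco : ∀ (c : S) (w : S ⊗[k] H) i, equivFinsuppOfBasisRight b ((c ⊗ₜ[k] (1 : H)) * w) i =
      c * equivFinsuppOfBasisRight b w i := by
    intro c w i
    induction w using TensorProduct.induction_on with
    | zero => simp
    | tmul y t => simp [equivFinsuppOfBasisRight_apply_tmul_apply, Algebra.mul_smul_comm]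
    | add p q hp hq => simp only [mul_add, map_add, Finsupp.add_apply, hp, hq]
  apply (equivFinsuppOfBasisRight b).injective
  rw [map_zero]
  ext i
  rw [hco, h _ (by rw [← hco, hz, map_zero]; rfl)]
  rfl

variable [Comod k H S]
    (hmul : ∀ x y : S, Comod.coact (k := k) (A := H) (x * y) =
        Comod.coact (k := k) (A := H) x * Comod.coact (k := k) (A := H) y)
    (hone : Comod.coact (k := k) (A := H) (1 : S) = 1)

include hmul hone in
theorem coact_idem {ε : S} (hε : ε * ε = ε) (hle : (ε ⊗ₜ[k] (1 : H)) * Comod.coact (k := k) (A := H) ε = ε ⊗ₜ[k] 1) :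
    Comod.coact (k := k) (A := H) ε = ε ⊗ₜ[k] 1 := by
  let ρ : S →ₐ[k] S ⊗[k] H := AlgHom.ofLinearMap (Comod.coact (k := k) (A := H)) hone hmul
  let τ : S ⊗[k] H →ₐ[k] S ⊗[k] H :=
    Algebra.TensorProduct.map (AlgHom.id k S) (HopfAlgebra.antipodeAlgHom k H)
  let Ψ : S ⊗[k] H →ₐ[k] S ⊗[k] H :=
    Algebra.TensorProduct.lift (τ.comp ρ) Algebra.TensorProduct.includeRight (fun _ _ => Commute.all _ _)
  have hττ : ∀ z, τ (τ z) = z := fun z => by
    induction z using TensorProduct.induction_on with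
    | zero => simp
    | tmul y t => simp [τ, GrothLib.Hopf.antipode_antipode]
    | add p q hp hq => simp only [map_add, hp, hq]
  have hΨ : Ψ.toLinearMap = ((LinearMap.mul' k H ∘ₗ (HopfAlgebraStruct.antipode k (A := H)).rTensor H).lTensor S) ∘ₗ
      (TensorProduct.assoc k S H H).toLinearMap ∘ₗ (Comod.coact (k := k) (A := H) (V := S)).rTensor H := by
    refine TensorProduct.ext' fun x h => ?_
    simp only [AlgHom.toLinearMap_apply, LinearMap.comp_apply, LinearMap.rTensor_tmul, Ψ,
      Algebra.TensorProduct.lift_tmul, AlgHom.comp_apply, Algebra.TensorProduct.includeRight_apply]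
    change τ (Comod.coact (k := k) (A := H) x) * _ = _
    induction Comod.coact (k := k) (A := H) x using TensorProduct.induction_on with
    | zero => simp
    | tmul y t => simp [τ, Algebra.TensorProduct.tmul_mul_tmul]
    | add p q hp hq => simp only [map_add, add_mul, add_tmul, hp, hq]
  have hΨρ : ∀ x, Ψ (ρ x) = x ⊗ₜ[k] 1 := fun x => by
    change Ψ.toLinearMap (Comod.coact (k := k) (A := H) x) = _
    rw [hΨ]
    have h1 := LinearMap.congr_fun (Comod.coassoc (k := k) (A := H) (V := S)) x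
    simp only [LinearMap.comp_apply, LinearEquiv.coe_coe] at h1 ⊢
    rw [h1, ← LinearMap.lTensor_comp_apply, LinearMap.comp_assoc,
      HopfAlgebra.mul_antipode_rTensor_comul, LinearMap.lTensor_comp_apply]
    have h2 := LinearMap.congr_fun (Comod.counit_comp (k := k) (A := H) (V := S)) x
    rw [LinearMap.comp_apply] at h2
    rw [h2]
    simp
  set η := τ (ρ ε)
  have hη : Ψ (ε ⊗ₜ[k] 1) = η := by simp [Ψ, η, ← Algebra.TensorProduct.one_def]
  have hε1 : τ (ε ⊗ₜ[k] 1) = ε ⊗ₜ[k] 1 := by simp [τ]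
  have e1 : η * (ε ⊗ₜ[k] 1) = η := by
    have := congrArg Ψ hle
    rw [map_mul, hη] at this
    rwa [show Ψ (Comod.coact (k := k) (A := H) ε) = ε ⊗ₜ[k] 1 from hΨρ ε] at this
  have e2 : (ε ⊗ₜ[k] 1) * η = ε ⊗ₜ[k] 1 := by
    have := congrArg τ hle
    rwa [map_mul, hε1] at this
  have : η = ε ⊗ₜ[k] 1 := by rw [← e1, mul_comm]; exact e2
  have := congrArg τ this
  rwa [hττ, hε1] at this

include hmul hone in
theorem invariants_prod {ι : Type u} [Fintype ι] (D : ι → Type u) [∀ i, CommRing (D i)]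
    [∀ i, IsDomain (D i)] [∀ i, IsIntegrallyClosed (D i)] (e : S ≃+* Π i, D i)
    (A : Subalgebra k S)
    (hA : ∀ a : S, a ∈ A ↔ Comod.coact (k := k) (A := H) a = a ⊗ₜ[k] (1 : H)) :
    ∃ (κ : Type u) (_ : Fintype κ) (E : κ → Type u) (_ : ∀ j, CommRing (E j)) (_ : ∀ j, IsDomain (E j))
      (_ : ∀ j, IsIntegrallyClosed (E j)), Nonempty (A ≃+* Π j, E j) := by
  classical
  let A' : Subring (Π i, D i) := A.toSubring.map e.toRingHom
  let s : S → S := fun a => e.symm (supp D (e a))
  have hs1 : ∀ a, s a * a = a := fun a => e.injective (by simp [s, supp_mul_self])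
  have hs2 : ∀ a y, a * y = 0 → s a * y = 0 := fun a y h => e.injective (by
    simp only [s, map_mul, RingEquiv.apply_symm_apply, map_zero]
    exact supp_mul_eq_zero D _ _ (by rw [← map_mul, h, map_zero]))
  have hs : ∀ a ∈ A, s a ∈ A := by
    intro a ha
    have hi : s a * s a = s a := e.injective (by
      simp only [s, map_mul, RingEquiv.apply_symm_apply]
      funext i
      simp only [Pi.mul_apply, supp]
      split <;> simp)
    rw [hA] at ha ⊢
    refine coact_idem hmul hone hi ?_
    have h0 : (a ⊗ₜ[k] (1 : H)) * (Comod.coact (k := k) (A := H) (s a) - 1) = 0 := by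
      rw [mul_sub, mul_one, sub_eq_zero, ← ha, ← hmul, mul_comm a, hs1]
    have := ann_tensor (hs2 a) _ h0
    rwa [mul_sub, mul_one, sub_eq_zero] at this
  obtain ⟨κ, hκ, E, i1, i2, i3, ⟨φ⟩⟩ := exists_prod_of D A' (by
      rintro _ ⟨a, ha, rfl⟩
      exact ⟨s a, hs a ha, e.apply_symm_apply _⟩) (by
      rintro z _ ⟨b, hb, rfl⟩ ⟨c, hc, hzb⟩ hz
      refine ⟨e.symm z, ?_, e.apply_symm_apply z⟩
      have hzb' : e.symm z * b = c := e.injective (by simpa using hzb.symm)
      have hz' : e.symm z * s b = e.symm z := e.injective (by simpa [s] using hz)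
      have hsb : s b ∈ A := hs b hb
      change _ ∈ A at hb hc ⊢
      rw [hA] at hb hc hsb ⊢
      have h0 : (b ⊗ₜ[k] (1 : H)) * (Comod.coact (k := k) (A := H) (e.symm z) - e.symm z ⊗ₜ[k] 1) = 0 := by
        rw [mul_sub, Algebra.TensorProduct.tmul_mul_tmul, one_mul, ← hb, ← hmul, mul_comm b, hzb', hc,
          sub_self]
      have := ann_tensor (hs2 b) _ h0
      rwa [mul_sub, sub_eq_zero, Algebra.TensorProduct.tmul_mul_tmul, one_mul, ← hsb, ← hmul,
        mul_comm (s b), hz'] at this)
  exact ⟨κ, hκ, E, i1, i2, i3, ⟨(A.toSubring.equivMapOfInjective e.toRingHom e.injective).trans φ⟩⟩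

end GrothLib.NormProd
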